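import Mathlib.GroupTheory.Sylow
import Mathlib.GroupTheory.PGroup
import Mathlib.GroupTheory.Nilpotent

/-!
# The theorem of Baer, in the form: pairwise `p`-generated conjugation invariant set
-/

set_option autoImplicit false
set_option linter.style.haveILetI false

open scoped Pointwise

namespace Cfsg.Agent.Gagola

variable {G : Type*} [Group G] [Finite G] {p : ℕ} [hp : Fact p.Prime]

theorem isPGroup_closure_of_pairwise (D : Set G) (hD : ∀ g : G, ∀ d ∈ D, g * d * g⁻¹ ∈ D)
    (hpair : ∀ a ∈ D, ∀ b ∈ D, IsPGroup p (Subgroup.closure ({a, b} : Set G))) :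
    IsPGroup p (Subgroup.closure D) := by
  classical
  let tr : Sylow p G → Set G := fun P => D ∩ ((P : Subgroup G) : Set G)
  have hsub : ∀ H : Subgroup G, IsPGroup p H → ∃ P : Sylow p G, H ≤ P :=
    fun H hH => hH.exists_le_sylow
  have hcard : ∀ P Q : Sylow p G, (tr P).ncard = (tr Q).ncard := by
    intro P Q
    obtain ⟨g, rfl⟩ := MulAction.exists_smul_eq G P Q
    refine Set.ncard_congr (fun d _ => g * d * g⁻¹) ?_ ?_ ?_
    · rintro d ⟨hd, hdP⟩
      refine ⟨hD g d hd, ?_⟩
      rw [Sylow.coe_subgroup_smul]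
      exact Subgroup.smul_mem_pointwise_smul _ (MulAut.conj g) _ hdP
    · intro a b _ _ hab; simpa using hab
    · rintro b ⟨hb, hbP⟩
      refine ⟨g⁻¹ * b * g, ⟨by simpa using hD g⁻¹ b hb, ?_⟩, by group⟩
      show g⁻¹ * b * g ∈ (P : Subgroup G)
      have h := Subgroup.mem_pointwise_smul_iff_inv_smul_mem.mp
        (show b ∈ MulAut.conj g • (P : Subgroup G) from hbP)
      have h' : g⁻¹ * b * g ∈ (P : Subgroup G) := by simpa [MulAut.smul_def] using h
      exact h'
  by_contra hcon
  have hne : ∃ PQ : Sylow p G × Sylow p G, tr PQ.1 ≠ tr PQ.2 := by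
    by_contra h
    push Not at h
    obtain ⟨P₀⟩ := (inferInstance : Nonempty (Sylow p G))
    refine hcon (P₀.isPGroup'.to_le ((Subgroup.closure_le _).mpr fun d hd => ?_))
    obtain ⟨Q, hQ⟩ := hsub _ (hpair d hd d hd)
    have hdQ : d ∈ tr Q := ⟨hd, hQ (Subgroup.subset_closure (by simp))⟩
    exact ((h (P₀, Q)).symm ▸ hdQ : d ∈ tr P₀).2
  haveI : Finite (Sylow p G × Sylow p G) := inferInstance
  obtain ⟨⟨P, Q⟩, hPQ, hmax⟩ := (Set.toFinite {PQ : Sylow p G × Sylow p G | tr PQ.1 ≠ tr PQ.2}).exists_maximalFor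
    (fun PQ => (tr PQ.1 ∩ tr PQ.2).ncard) _ hne
  set E := tr P ∩ tr Q with hE
  set R := Subgroup.closure E with hR
  have key : ∀ S : Sylow p G, E ⊆ tr S → E ≠ tr S →
      ∃ x ∈ tr S, x ∉ E ∧ x ∈ Subgroup.normalizer (R : Set G) := by
    intro S hES hne'
    by_contra hno
    push Not at hno
    let M := (Subgroup.normalizer (R : Set G)).subgroupOf (S : Subgroup G)
    have hRS : R ≤ (S : Subgroup G) := (Subgroup.closure_le _).mpr fun e he => (hES he).2
    haveI : Group.IsNilpotent (S : Subgroup G) := S.isPGroup'.isNilpotent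
    by_cases hM : M = ⊤
    · apply hne'
      refine Set.Subset.antisymm hES fun x hx => ?_
      by_contra hxE
      exact hno x hx hxE (Subgroup.mem_subgroupOf.mp
        (show (⟨x, hx.2⟩ : (S : Subgroup G)) ∈ M by rw [hM]; trivial))
    · obtain ⟨g, hg, hgM⟩ := SetLike.exists_of_lt (Group.normalizerCondition_of_isNilpotent M (lt_top_iff_ne_top.mpr hM))
      apply hgM
      rw [Subgroup.mem_subgroupOf]
      have hconj : ∀ e ∈ E, (g : G) * e * (g : G)⁻¹ ∈ E := by
        intro e he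
        by_contra hne''
        have heS : (⟨e, (hES he).2⟩ : (S : Subgroup G)) ∈ M := by
          rw [Subgroup.mem_subgroupOf]
          exact Subgroup.le_normalizer (Subgroup.subset_closure he)
        have h1 := (Subgroup.mem_normalizer_iff.mp hg _).mp heS
        rw [Subgroup.mem_subgroupOf] at h1
        exact hno _ ⟨hD _ e (hES he).1, (g * ⟨e, (hES he).2⟩ * g⁻¹).2⟩ hne'' (by simpa using h1)
      refine Subgroup.mem_normalizer_iff_map_conj_eq.mpr ?_
      refine Subgroup.eq_of_le_of_card_ge ?_ (Subgroup.card_map_of_injective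
        (MulAut.conj (g : G)).injective).ge
      rw [hR, MonoidHom.map_closure, Subgroup.closure_le]
      rintro _ ⟨e, he, rfl⟩
      exact Subgroup.subset_closure (hconj e he)
  have hEP : E ≠ tr P := fun h => hPQ
    (Set.eq_of_subset_of_ncard_le (fun x hx => ((h.symm ▸ hx : x ∈ E)).2) (hcard Q P).le
      (Set.toFinite _))
  have hEQ : E ≠ tr Q := fun h => hPQ
    (Set.eq_of_subset_of_ncard_le (fun x hx => ((h.symm ▸ hx : x ∈ E)).1) (hcard P Q).le
      (Set.toFinite _)).symm
  obtain ⟨x, hxP, hxE, hxn⟩ := key P Set.inter_subset_left hEP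
  obtain ⟨y, hyQ, hyE, hyn⟩ := key Q Set.inter_subset_right hEQ
  have hRp : IsPGroup p R := P.isPGroup'.to_le ((Subgroup.closure_le _).mpr fun e he => he.1.2)
  have hle : Subgroup.closure ({x, y} : Set G) ≤ Subgroup.normalizer (R : Set G) :=
    (Subgroup.closure_le _).mpr (by rintro z (rfl | rfl) <;> assumption)
  obtain ⟨T, hT⟩ := hsub _ (hRp.to_sup_of_normal_left' (hpair x hxP.1 y hyQ.1) hle)
  have hET : E ⊆ tr T := fun e he => ⟨he.1.1, hT (Subgroup.mem_sup_left (Subgroup.subset_closure he))⟩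
  have hxT : x ∈ tr T := ⟨hxP.1, hT (Subgroup.mem_sup_right (Subgroup.subset_closure (by simp)))⟩
  have hyT : y ∈ tr T := ⟨hyQ.1, hT (Subgroup.mem_sup_right (Subgroup.subset_closure (by simp)))⟩
  have hbig : ∀ (S : Sylow p G) (z : G), E ⊆ tr S → z ∈ tr S → z ∈ tr T → z ∉ E → tr S = tr T := by
    intro S z hES hzS hzT hzE
    by_contra hne'
    have hlt : E.ncard < (tr S ∩ tr T).ncard :=
      Set.ncard_lt_ncard ⟨Set.subset_inter hES hET, fun h => hzE (h ⟨hzS, hzT⟩)⟩
    exact absurd (hmax (j := (S, T)) hne' hlt.le) (not_le.mpr hlt)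
  exact hPQ ((hbig P x Set.inter_subset_left hxP hxT hxE).trans
    (hbig Q y Set.inter_subset_right hyQ hyT hyE).symm)

end Cfsg.Agent.Gagola
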