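import Cfsg.Prelude.Def_Solvable
import Cfsg.Prelude.Def_Transfer
import Mathlib.GroupTheory.Sylow
import Mathlib.GroupTheory.SchurZassenhaus
import Mathlib.GroupTheory.PGroup
import Mathlib.GroupTheory.GroupAction.ConjAct
import Cfsg.Agent.Gagola.Baer

/-!
# The group theory of a Gagola configuration

A normal `p`-subgroup `N`, elementary abelian, on whose nontrivial elements `G` is transitive, with
`p`-group point centralisers, and such that each coset `zN` outside `N` lies in one class.
-/

set_option autoImplicit false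
set_option linter.style.haveILetI false

namespace Cfsg.Agent.Gagola

open Subgroup

universe u

variable {G : Type u} [Group G] {p : ℕ} {N : Subgroup G}

/-- The group-theoretic content of a character nonzero on exactly two classes. -/
structure Config (p : ℕ) (N : Subgroup G) : Prop where
  normal : N.Normal
  isPGroup : IsPGroup p N
  ne_bot : N ≠ ⊥
  comm : ∀ a ∈ N, ∀ b ∈ N, a * b = b * a
  pow : ∀ a ∈ N, a ^ p = 1
  trans : ∀ a ∈ N, ∀ b ∈ N, a ≠ 1 → b ≠ 1 → IsConj a b
  cent : ∀ a ∈ N, a ≠ 1 → IsPGroup p (Subgroup.centralizer ({a} : Set G))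
  coset : ∀ z : G, z ∉ N → ∀ n ∈ N, IsConj z (z * n)

theorem isPGroup_closure_pair {H : Type*} [Group H] [Finite H] {a b : H} (ha : a * a = 1)
    (hb : b * b = 1) (hab : ∃ k, (a * b) ^ 2 ^ k = 1) :
    IsPGroup 2 (Subgroup.closure ({a, b} : Set H)) := by
  obtain ⟨k, hk⟩ := hab
  have hai : a⁻¹ = a := inv_eq_of_mul_eq_one_right ha
  have hbi : b⁻¹ = b := inv_eq_of_mul_eq_one_right hb
  set C := Subgroup.zpowers (a * b)
  have hC : IsPGroup 2 C := by
    obtain ⟨j, -, hj⟩ := (Nat.dvd_prime_pow Nat.prime_two).mp (orderOf_dvd_of_pow_eq_one hk)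
    exact IsPGroup.of_card (n := j) (by rw [Nat.card_zpowers, hj])
  have hA : IsPGroup 2 (Subgroup.zpowers a) := by
    obtain ⟨j, -, hj⟩ := (Nat.dvd_prime_pow Nat.prime_two).mp
      (orderOf_dvd_of_pow_eq_one (show a ^ 2 ^ 1 = 1 by simpa [pow_two] using ha))
    exact IsPGroup.of_card (n := j) (by rw [Nat.card_zpowers, hj])
  have hinv : ∀ x ∈ C, a * x * a⁻¹ = x⁻¹ := by
    rintro _ ⟨i, rfl⟩
    simp only
    rw [← conj_zpow, ← inv_zpow, mul_inv_rev, hbi, hai]
    congr 1
    rw [← mul_assoc, ha, one_mul]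
  have hnorm : Subgroup.zpowers a ≤ Subgroup.normalizer (C : Set H) := by
    rw [Subgroup.zpowers_le, Subgroup.mem_normalizer_iff]
    refine fun x => ⟨fun hx => hinv x hx ▸ C.inv_mem hx, fun hx => ?_⟩
    have h1 := hinv _ hx
    have h2 : a * (a * x * a⁻¹) * a⁻¹ = x := by
      calc a * (a * x * a⁻¹) * a⁻¹ = (a * a) * x * (a * a)⁻¹ := by group
        _ = x := by rw [ha]; group
    rw [h2] at h1
    rw [h1]; exact C.inv_mem hx
  refine (hC.to_sup_of_normal_left' hA hnorm).to_le ((Subgroup.closure_le _).mpr ?_)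
  intro x hx
  rcases Set.mem_insert_iff.mp hx with rfl | hx
  · exact Subgroup.mem_sup_right (Subgroup.mem_zpowers _)
  · obtain rfl : x = b := hx
    have : x = a⁻¹ * (a * x) := (inv_mul_cancel_left a x).symm
    rw [this]
    exact mul_mem (inv_mem (Subgroup.mem_sup_right (Subgroup.mem_zpowers _)))
      (Subgroup.mem_sup_left (Subgroup.mem_zpowers _))

variable (hc : Config p N)
include hc

theorem Config.exists_ne_one : ∃ a ∈ N, a ≠ 1 := by
  rcases N.bot_or_exists_ne_one with h | h
  · exact absurd h hc.ne_bot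
  · exact h

theorem Config.le_of_normal_mem {K : Subgroup G} (hK : K.Normal) {a : G} (ha : a ∈ N)
    (ha1 : a ≠ 1) (haK : a ∈ K) : N ≤ K := by
  intro b hb
  rcases eq_or_ne b 1 with rfl | hb1
  · exact K.one_mem
  · obtain ⟨g, rfl⟩ := isConj_iff.mp (hc.trans a ha b hb ha1 hb1)
    exact hK.conj_mem a haK g

/-- An element fixing a nontrivial element of `N` has `p`-power order. -/
theorem Config.orderOf_eq_pow [Finite G] [Fact p.Prime] {y a : G} (ha : a ∈ N) (ha1 : a ≠ 1)
    (hy : y * a = a * y) : ∃ k, orderOf y = p ^ k := by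
  have hmem : y ∈ Subgroup.centralizer ({a} : Set G) := by
    rw [Subgroup.mem_centralizer_singleton_iff]; exact hy
  obtain ⟨k, hk⟩ := (IsPGroup.iff_orderOf.mp (hc.cent a ha ha1)) ⟨y, hmem⟩
  exact ⟨k, by rwa [← Subgroup.orderOf_mk y hmem]⟩

theorem Config.centralizer_le_pCore [Finite G] :
    Subgroup.centralizer (N : Set G) ≤ Cfsg.pCore p G := by
  obtain ⟨a, ha, ha1⟩ := hc.exists_ne_one
  have := hc.normal
  refine le_sSup ⟨inferInstance, (hc.cent a ha ha1).to_le ?_⟩
  exact Subgroup.centralizer_le (by simpa using ha)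

theorem Config.le_pCore : N ≤ Cfsg.pCore p G := le_sSup ⟨hc.normal, hc.isPGroup⟩

/-- A nontrivial `p`-subgroup-normalised element fixes something in `N`. -/
theorem Config.exists_fixed [Finite G] [Fact p.Prime] {z : G} (hz : ∃ k, orderOf z = p ^ k) :
    ∃ a ∈ N, a ≠ 1 ∧ z * a = a * z := by
  haveI := hc.normal
  obtain ⟨k, hk⟩ := hz
  have hZ : IsPGroup p (Subgroup.zpowers z) :=
    IsPGroup.of_card (n := k) (by rw [Nat.card_zpowers, hk])
  letI : MulAction (Subgroup.zpowers z) N :=
    MulAction.compHom N ((MulAut.conjNormal (H := N)).comp (Subgroup.zpowers z).subtype)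
  have hdvd : p ∣ Nat.card N := by
    obtain ⟨n, hn⟩ := hc.isPGroup.exists_card_eq
    rcases Nat.eq_zero_or_pos n with rfl | hpos
    · exact absurd (Subgroup.card_eq_one.mp (by simpa using hn)) hc.ne_bot
    · exact hn ▸ dvd_pow_self p hpos.ne'
  have hone : (1 : N) ∈ MulAction.fixedPoints (Subgroup.zpowers z) N := fun g => by
    show MulAut.conjNormal (g : G) (1 : N) = 1
    exact map_one _
  obtain ⟨b, hb, hb1⟩ := hZ.exists_fixed_point_of_prime_dvd_card_of_fixed_point N hdvd hone
  refine ⟨b, b.2, fun h => hb1 (Subtype.ext h.symm), ?_⟩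
  have h2 : MulAut.conjNormal z b = b := hb ⟨z, Subgroup.mem_zpowers z⟩
  have h3 : z * (b : G) * z⁻¹ = b := by rw [← MulAut.conjNormal_apply, h2]
  exact mul_inv_eq_iff_eq_mul.mp h3

/-- If `y` fixes nothing in `N ∖ {1}`, its coset is the set of its `N`-conjugates. -/
theorem Config.exists_conj_of_fixfree [Finite G] {y : G}
    (hy : ∀ a ∈ N, y * a = a * y → a = 1) {n : G} (hn : n ∈ N) :
    ∃ m ∈ N, m * y * m⁻¹ = y * n := by
  have hN := hc.normal
  let f : N → N := fun m => ⟨y⁻¹ * (m * y * (m : G)⁻¹), by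
    have h1 : y⁻¹ * (m : G) * (y⁻¹)⁻¹ ∈ N := hN.conj_mem _ m.2 _
    have := N.mul_mem h1 (N.inv_mem m.2)
    simpa [mul_assoc] using this⟩
  have hf : Function.Injective f := by
    intro a b hab
    have h1 : (a : G) * y * (a : G)⁻¹ = b * y * (b : G)⁻¹ := by
      simpa [f] using congrArg Subtype.val hab
    have h2 : y * ((b : G)⁻¹ * a) = ((b : G)⁻¹ * a) * y := by
      calc y * ((b : G)⁻¹ * a) = (b : G)⁻¹ * ((b * y * (b : G)⁻¹) * a) := by group
        _ = (b : G)⁻¹ * ((a * y * (a : G)⁻¹) * a) := by rw [h1]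
        _ = ((b : G)⁻¹ * a) * y := by group
    have h3 := hy _ (N.mul_mem (N.inv_mem b.2) a.2) h2
    exact Subtype.ext (inv_mul_eq_one.mp h3).symm
  obtain ⟨m, hm⟩ := (Finite.injective_iff_surjective.mp hf) ⟨n, hn⟩
  refine ⟨m, m.2, ?_⟩
  have h1 : y⁻¹ * (m * y * (m : G)⁻¹) = n := congrArg Subtype.val hm
  rw [← h1]; group

theorem Config.card_centralizer_coprime_index [Finite G] [Fact p.Prime] {a : G} (ha : a ∈ N)
    (ha1 : a ≠ 1) :
    (Subgroup.centralizer ({a} : Set G)).index + 1 = Nat.card N := by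
  classical
  have hN := hc.normal
  have horb : MulAction.orbit (ConjAct G) a = (N : Set G) \ {1} := by
    ext b
    rw [ConjAct.mem_orbit_conjAct]
    constructor
    · intro hb
      obtain ⟨g, rfl⟩ := isConj_iff.mp hb.symm
      refine ⟨hN.conj_mem a ha g, ?_⟩
      simpa using ha1
    · rintro ⟨hb, hb1⟩
      exact hc.trans b hb a ha (by simpa using hb1) ha1
  have h1 : (Subgroup.centralizer ({a} : Set G)).index = (MulAction.orbit (ConjAct G) a).ncard := by
    rw [← MulAction.index_stabilizer, ConjAct.stabilizer_eq_centralizer]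
    rfl
  rw [h1, horb, Set.ncard_sdiff_singleton_add_one N.one_mem (Set.toFinite _),
    ← Nat.card_coe_set_eq]
  rfl

theorem Config.not_dvd_index_centralizer [Finite G] [hp : Fact p.Prime] {a : G} (ha : a ∈ N)
    (ha1 : a ≠ 1) : ¬ p ∣ (Subgroup.centralizer ({a} : Set G)).index := by
  intro h
  have h1 := hc.card_centralizer_coprime_index ha ha1
  obtain ⟨n, hn⟩ := hc.isPGroup.exists_card_eq
  rcases Nat.eq_zero_or_pos n with rfl | hpos
  · exact hc.ne_bot (Subgroup.card_eq_one.mp (by simpa using hn))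
  · have h2 : p ∣ Nat.card N := hn ▸ dvd_pow_self p hpos.ne'
    have h3 : p ∣ 1 := (Nat.dvd_add_right h).mp (h1 ▸ h2)
    exact hp.out.one_lt.ne' (Nat.dvd_one.mp h3)

/-- Point centralisers are Sylow subgroups. -/
theorem Config.exists_sylow_eq [Finite G] [Fact p.Prime] {a : G} (ha : a ∈ N) (ha1 : a ≠ 1) :
    ∃ P : Sylow p G, Subgroup.centralizer ({a} : Set G) = P :=
  ⟨(hc.cent a ha ha1).toSylow (hc.not_dvd_index_centralizer ha ha1), rfl⟩

/-- `N = O_p(G)` forces `p ∤ |G : N|`. -/
theorem Config.not_dvd_index [Finite G] [hp : Fact p.Prime] (hN : N = Cfsg.pCore p G) :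
    ¬ p ∣ N.index := by
  intro hdvd
  haveI := hc.normal
  have hC : Subgroup.centralizer (N : Set G) ≤ N := hc.centralizer_le_pCore.trans_eq hN.symm
  have hcardN := @Config.card_centralizer_coprime_index _ _ _ _ hc _ _
  obtain ⟨a₀, ha₀, ha₀1⟩ := hc.exists_ne_one
  obtain ⟨q, hq⟩ := exists_prime_orderOf_dvd_card' (G := G ⧸ N) p hdvd
  rcases eq_or_ne p 2 with rfl | hp2
  · -- an involution of the quotient inverting a nontrivial element of odd order
    obtain ⟨z, y, hzN, hyN, hzsq, hyodd, hzy⟩ : ∃ z y : G, z ∉ N ∧ y ∉ N ∧ z * z ∈ N ∧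
        ¬ (∃ k, orderOf y = 2 ^ k) ∧ y * (z * y * z⁻¹) ∈ N := by
      have hqq : q * q = 1 := by rw [← pow_two, ← hq, pow_orderOf_eq_one]
      have hq1 : q ≠ 1 := fun h => by simp [h] at hq
      have hbad : ∃ g : G ⧸ N, ¬ ∃ k, (q * (g * q * g⁻¹)) ^ 2 ^ k = 1 := by
        by_contra hall
        push Not at hall
        have hP := isPGroup_closure_of_pairwise (p := 2) (conjugatesOf q)
          (fun g d hd => IsConj.trans (show IsConj q d from hd) (isConj_iff.mpr ⟨g, rfl⟩))
          (by
            intro a ha b hb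
            obtain ⟨g₁, rfl⟩ := isConj_iff.mp (show IsConj q a from ha)
            obtain ⟨g₂, rfl⟩ := isConj_iff.mp (show IsConj q b from hb)
            have hord : ∃ k, (g₁ * q * g₁⁻¹ * (g₂ * q * g₂⁻¹)) ^ 2 ^ k = 1 := by
              obtain ⟨k, hk⟩ := hall (g₁⁻¹ * g₂)
              refine ⟨k, ?_⟩
              have : g₁ * q * g₁⁻¹ * (g₂ * q * g₂⁻¹) =
                  g₁ * (q * (g₁⁻¹ * g₂ * q * (g₁⁻¹ * g₂)⁻¹)) * g₁⁻¹ := by group
              rw [this, conj_pow, hk]; group
            exact isPGroup_closure_pair (by simp [conj_mul, hqq]) (by simp [conj_mul, hqq]) hord)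
        have hmem : q ∈ Subgroup.normalClosure {q} :=
          Subgroup.subset_normalClosure (Set.mem_singleton q)
        have hPn : IsPGroup 2 (Subgroup.normalClosure ({q} : Set (G ⧸ N))) := by
          unfold Subgroup.normalClosure
          have : Group.conjugatesOfSet ({q} : Set (G ⧸ N)) = conjugatesOf q :=
            Set.biUnion_singleton _ _
          rw [this]
          exact hP
        set K := (Subgroup.normalClosure ({q} : Set (G ⧸ N))).comap (QuotientGroup.mk' N)
        have hKp : IsPGroup 2 K := hPn.comap_of_ker_isPGroup _ (by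
          rw [QuotientGroup.ker_mk']; exact hc.isPGroup)
        have hKN : K ≤ N := by rw [hN]; exact le_sSup ⟨inferInstance, hKp⟩
        obtain ⟨q₀, rfl⟩ := QuotientGroup.mk_surjective q
        exact hq1 ((QuotientGroup.eq_one_iff q₀).mpr (hKN (show q₀ ∈ K from hmem)))
      obtain ⟨g, hg⟩ := hbad
      push Not at hg
      obtain ⟨z, rfl⟩ := QuotientGroup.mk_surjective q
      obtain ⟨g, rfl⟩ := QuotientGroup.mk_surjective g
      set y := z * (g * z * g⁻¹) with hy
      refine ⟨z, y, fun h => hq1 ((QuotientGroup.eq_one_iff z).mpr h), ?_,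
        (QuotientGroup.eq_one_iff _).mp (by simpa using hqq), ?_, ?_⟩
      · intro h
        apply hg 0
        have h' : (y : G ⧸ N) = 1 := (QuotientGroup.eq_one_iff y).mpr h
        simpa [hy] using h'
      · rintro ⟨k, hk⟩
        apply hg k
        have h' : ((y ^ 2 ^ k : G) : G ⧸ N) = 1 := by rw [← hk, pow_orderOf_eq_one]; rfl
        simpa [hy] using h'
      · rw [← QuotientGroup.eq_one_iff]
        set q := (z : G ⧸ N)
        set d := (g : G ⧸ N)
        show q * (d * q * d⁻¹) * (q * (q * (d * q * d⁻¹)) * q⁻¹) = 1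
        have hqi : q⁻¹ = q := inv_eq_of_mul_eq_one_right hqq
        calc q * (d * q * d⁻¹) * (q * (q * (d * q * d⁻¹)) * q⁻¹)
            = q * (d * q * d⁻¹) * ((q * q) * (d * q * d⁻¹)) * q⁻¹ := by simp only [mul_assoc]
          _ = q * (d * q * d⁻¹) * (1 * (d * q * d⁻¹)) * q⁻¹ := by rw [hqq]
          _ = q * (d * (q * q) * d⁻¹) * q⁻¹ := by group
          _ = 1 := by rw [hqq]; group
    have hyfree : ∀ a ∈ N, y * a = a * y → a = 1 := by
      intro a ha hcomm
      by_contra ha1
      exact hyodd (hc.orderOf_eq_pow ha ha1 hcomm)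
    have hyifree : ∀ a ∈ N, y⁻¹ * a = a * y⁻¹ → a = 1 := fun a ha h =>
      hyfree a ha (show Commute y a from Commute.inv_left_iff.mp h).eq
    have hzy' : y * (z * y * z⁻¹) ∈ N := hzy
    obtain ⟨m, hm, hmy⟩ := hc.exists_conj_of_fixfree hyifree hzy'
    rw [inv_mul_cancel_left] at hmy
    set w := m⁻¹ * z with hwdef
    have hwy : w * y * w⁻¹ = y⁻¹ := by
      calc w * y * w⁻¹ = m⁻¹ * (z * y * z⁻¹) * m := by simp only [hwdef]; group
        _ = y⁻¹ := by rw [← hmy]; group
    have hwN : w ∉ N := fun h => hzN (by simpa [hwdef] using N.mul_mem hm h)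
    have hww : w * w = 1 := by
      have hwq : (w : G ⧸ N) = (z : G ⧸ N) := by
        rw [QuotientGroup.eq]
        simpa [hwdef, mul_assoc] using hc.normal.conj_mem m hm z⁻¹
      have h2 : w * w ∈ N := by
        rw [← QuotientGroup.eq_one_iff, QuotientGroup.mk_mul, hwq, ← QuotientGroup.mk_mul,
          QuotientGroup.eq_one_iff]
        exact hzsq
      refine hyfree _ h2 ?_
      have h3 : w * w * y * (w * w)⁻¹ = y := by
        calc w * w * y * (w * w)⁻¹ = w * (w * y * w⁻¹) * w⁻¹ := by group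
          _ = w * y⁻¹ * w⁻¹ := by rw [hwy]
          _ = (w * y * w⁻¹)⁻¹ := by group
          _ = y := by rw [hwy, inv_inv]
      exact (mul_inv_eq_iff_eq_mul.mp h3).symm
    have hwC : w ∈ Subgroup.centralizer (N : Set G) := by
      rw [Subgroup.mem_centralizer_iff]
      intro n hn
      obtain ⟨c, hcn⟩ := isConj_iff.mp (hc.coset w hwN n hn)
      have h1 : (w * n) * (w * n) = 1 := by
        rw [← hcn]
        calc c * w * c⁻¹ * (c * w * c⁻¹) = c * (w * w) * c⁻¹ := by group
          _ = 1 := by rw [hww]; group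
      have hn2 : n * n = 1 := by rw [← pow_two]; exact hc.pow n hn
      have hni : n⁻¹ = n := inv_eq_of_mul_eq_one_right hn2
      have hwi : w⁻¹ = w := inv_eq_of_mul_eq_one_right hww
      have h5 : (w * n)⁻¹ = w * n := inv_eq_of_mul_eq_one_right h1
      rw [mul_inv_rev, hni, hwi] at h5
      exact h5
    exact hwN (hC hwC)
  · have hodd : Odd p := hp.out.odd_of_ne_two hp2
    have heven : 2 ∣ (Subgroup.centralizer ({a₀} : Set G)).index := by
      obtain ⟨n, hn⟩ := hc.isPGroup.exists_card_eq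
      have h2 : Odd (Nat.card N) := hn ▸ hodd.pow
      obtain ⟨k, hk⟩ := h2
      exact ⟨k, by have := hcardN ha₀ ha₀1; omega⟩
    have h2G : 2 ∣ Nat.card G :=
      heven.trans (Subgroup.index_dvd_card _)
    obtain ⟨t, ht⟩ := exists_prime_orderOf_dvd_card' (G := G) 2 h2G
    have httone : t * t = 1 := by rw [← pow_two, ← ht, pow_orderOf_eq_one]
    have htfree : ∀ a ∈ N, t * a = a * t → a = 1 := by
      intro a ha hcomm
      by_contra ha1
      obtain ⟨k, hk⟩ := hc.orderOf_eq_pow ha ha1 hcomm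
      rw [ht] at hk
      rcases Nat.eq_zero_or_pos k with rfl | hk0
      · simp at hk
      · exact hp2 ((Nat.prime_dvd_prime_iff_eq hp.out Nat.prime_two).mp
          (hk ▸ dvd_pow_self p hk0.ne'))
    have htinv : ∀ n ∈ N, t * n * t = n⁻¹ := by
      intro n hn
      obtain ⟨m, hm, hmn⟩ := hc.exists_conj_of_fixfree htfree hn
      have h1 : (t * n) * (t * n) = 1 := by
        rw [← hmn]
        calc m * t * m⁻¹ * (m * t * m⁻¹) = m * (t * t) * m⁻¹ := by group
          _ = 1 := by rw [httone]; group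
      exact eq_inv_of_mul_eq_one_left (by simpa [mul_assoc] using h1)
    -- every element is `N` times an element commuting with `t`
    have hdecomp : ∀ g : G, ∃ m ∈ N, (m⁻¹ * g) * t = t * (m⁻¹ * g) := by
      intro g
      have htinv' : t⁻¹ = t := inv_eq_of_mul_eq_one_right httone
      have hu : t * (g * t * g⁻¹) ∈ Subgroup.centralizer (N : Set G) := by
        rw [Subgroup.mem_centralizer_iff]
        intro n hn
        have hn' : g⁻¹ * n * g ∈ N := by
          simpa using hc.normal.conj_mem n hn g⁻¹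
        have h1 := htinv n hn
        have h2 := htinv _ hn'
        set w := g * t * g⁻¹ with hw
        have hw1 : w * w = 1 := by
          calc w * w = g * (t * t) * g⁻¹ := by rw [hw]; group
            _ = 1 := by rw [httone]; group
        have h3 : w * n * w = n⁻¹ := by
          calc w * n * w = g * (t * (g⁻¹ * n * g) * t) * g⁻¹ := by rw [hw]; group
            _ = n⁻¹ := by rw [h2]; group
        have h4 : w * n = n⁻¹ * w := by rw [← h3, mul_assoc (w * n), hw1, mul_one]
        have h5 : t * n⁻¹ = n * t := by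
          calc t * n⁻¹ = t * (t * n * t) := by rw [h1]
            _ = n * t := by rw [← mul_assoc, ← mul_assoc, httone, one_mul]
        calc n * (t * w) = n * t * w := (mul_assoc n t w).symm
          _ = t * n⁻¹ * w := by rw [h5]
          _ = t * (n⁻¹ * w) := mul_assoc t n⁻¹ w
          _ = t * (w * n) := by rw [h4]
          _ = t * w * n := (mul_assoc t w n).symm
      obtain ⟨m, hm, hmn⟩ := hc.exists_conj_of_fixfree htfree (hC hu)
      refine ⟨m, hm, ?_⟩
      have h4 : m * t * m⁻¹ = g * t * g⁻¹ := by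
        rw [hmn, ← mul_assoc, httone, one_mul]
      calc m⁻¹ * g * t = m⁻¹ * (g * t * g⁻¹) * g := by group
        _ = m⁻¹ * (m * t * m⁻¹) * g := by rw [h4]
        _ = t * (m⁻¹ * g) := by group
    obtain ⟨q₀, rfl⟩ := QuotientGroup.mk_surjective q
    obtain ⟨m₀, hm₀, hz⟩ := hdecomp q₀
    set z := m₀⁻¹ * q₀ with hzdef
    have hzN : z ∉ N := by
      intro h
      have : q₀ ∈ N := by simpa [hzdef] using N.mul_mem hm₀ h
      rw [(QuotientGroup.eq_one_iff q₀).mpr this, orderOf_one] at hq
      exact hp.out.one_lt.ne hq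
    have hzp : z ^ p = 1 := by
      have h1 : z ^ p ∈ N := by
        rw [← QuotientGroup.eq_one_iff, QuotientGroup.mk_pow]
        have : (z : G ⧸ N) = (q₀ : G ⧸ N) := by
          rw [QuotientGroup.eq]; simpa [hzdef, mul_assoc] using hc.normal.conj_mem m₀ hm₀ q₀⁻¹
        rw [this, ← hq, pow_orderOf_eq_one]
      exact htfree _ h1 (Commute.pow_right (show Commute t z from hz.symm) p).eq
    obtain ⟨a, ha, ha1, hza⟩ := hc.exists_fixed (z := z) ⟨1, by
      rw [pow_one]
      exact orderOf_eq_prime hzp (fun h => hzN (h ▸ N.one_mem))⟩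
    have hsurj : ∀ n ∈ N, ∃ m ∈ N, z * n = m * z * m⁻¹ := by
      intro n hn
      obtain ⟨g, hg⟩ := isConj_iff.mp (hc.coset z hzN n hn)
      obtain ⟨m, hm, hgt⟩ := hdecomp g
      refine ⟨m, hm, ?_⟩
      set h := m⁻¹ * g
      have h1 : h * z * h⁻¹ * z⁻¹ ∈ N := by
        have h2 : h * z * h⁻¹ = m⁻¹ * (z * n) * m := by rw [← hg]; simp only [h]; group
        rw [h2]
        have h3 : z * (n * m) * z⁻¹ ∈ N := hc.normal.conj_mem _ (N.mul_mem hn hm) z
        simpa [mul_assoc] using N.mul_mem (N.inv_mem hm) h3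
      have hch : Commute t h := show t * h = h * t from hgt.symm
      have hcz : Commute t z := show t * z = z * t from hz.symm
      have h4 : h * z * h⁻¹ * z⁻¹ = 1 := htfree _ h1
        ((((hch.mul_right hcz).mul_right hch.inv_right).mul_right hcz.inv_right)).eq
      have h5 : h * z * h⁻¹ = z := mul_inv_eq_one.mp h4
      calc z * n = g * z * g⁻¹ := hg.symm
        _ = m * (h * z * h⁻¹) * m⁻¹ := by simp only [h]; group
        _ = m * z * m⁻¹ := by rw [h5]
    choose! f hfN hf using hsurj
    let F : N → N := fun n => ⟨f n, hfN n n.2⟩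
    have hFinj : Function.Injective F := by
      intro x y hxy
      have : f (x : G) = f y := congrArg Subtype.val hxy
      have h1 := hf x x.2; have h2 := hf y y.2
      rw [this, ← h2] at h1
      exact Subtype.ext (mul_left_cancel h1)
    obtain ⟨x, hx⟩ := (Finite.injective_iff_surjective.mp hFinj) ⟨a, ha⟩
    have hfx : f (x : G) = a := congrArg Subtype.val hx
    obtain ⟨y, hy⟩ := (Finite.injective_iff_surjective.mp hFinj) 1
    have hfy : f (y : G) = 1 := congrArg Subtype.val hy
    have h1 := hf x x.2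
    rw [hfx, ← hza, mul_inv_cancel_right] at h1
    have h2 := hf y y.2
    rw [hfy, inv_one, one_mul, mul_one] at h2
    have hxy : x = y := Subtype.ext (mul_left_cancel (h1.trans h2.symm))
    rw [hxy, hfy] at hfx
    exact ha1 hfx.symm

end Cfsg.Agent.Gagola
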